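import Cfsg.Agent.Lib.Grp.SchurM.TailTable

/-! Data of a Sylow 17-subgroup of a group on 31671 points. -/

set_option autoImplicit false
set_option maxRecDepth 100000
set_option maxHeartbeats 8000000

open Cfsg.Agent.Grp.SchurM.Tails

namespace Cfsg.Agent.Spor.Cos.Fi23Mult

/-- Presentation. -/
def pc17 : PC where
  p := 17
  n := 1
  rhs := [[]]
  defs := []

/-- Words of the generators. -/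
def ews17 : List (List ℕ) :=
  [[1, 4, 5, 6, 0, 3, 8, 2, 3, 4, 1, 2, 3, 8, 5, 6, 4, 5, 3, 4, 2, 3, 8, 1, 2, 3, 4, 5, 6, 7, 3, 4, 0, 1, 2, 3, 8, 9, 5, 4, 3, 8, 2, 3, 4, 5, 6, 1, 2, 3, 8, 9, 5, 3, 4, 1, 2, 3, 8, 0, 1, 2, 3, 4, 5, 9, 2, 3, 4, 0, 1, 2, 3, 8, 4, 1, 2, 3, 0, 1, 2, 1, 0]]

/-- Words of the conjugating elements. -/
def gws17 : List (List ℕ) :=
  [[6, 3, 1, 0, 2, 1, 4, 5, 9, 4, 3, 8, 6, 5, 2, 3, 4, 0, 1, 2, 3, 8, 9, 3, 8, 5, 2, 3, 4, 1, 2, 3, 8, 0, 1, 2, 3, 4, 5, 6, 7, 5, 4, 0, 1, 2, 3, 8, 9, 5, 3, 4, 2, 3, 8, 1, 2, 3, 4, 5, 6, 8, 9, 3, 8, 4, 5, 3, 4, 0, 1, 2, 3, 8, 9, 4, 5, 3, 4, 1, 2, 3, 8, 0, 1, 2, 3, 4, 5, 3, 4, 0, 1, 2, 3, 8, 4, 0, 1]]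

/-- Conjugation data. -/
def conj17 : List Conj :=
  [(0, [0, 0, 0], [0])]

/-- Equations. -/
def eqs17 : List Eqn :=
  [.fus [0] [0, 0, 0, 0, 0, 0, 0, 0, 0, 0, 0, 0, 0, 0, 0, 0, 0] []]

/-- Combinations. -/
def combo17 : List (List ℕ) :=
  [[0, 0, 0, 0, 0, 0, 0, 0, 0]]

/-- Base points. -/
def basePts17 : List ℕ := [0, 1, 2, 3, 4, 5, 6, 8, 9]

/-- The certificate. -/
def tab17 : TableCert := ⟨pc17, ews17, gws17, conj17, ⟨eqs17, 1, combo17⟩, []⟩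

/-- Transversals along the base. -/
def lev17 : List (ℕ × List (List ℕ)) :=
  [(0, [[],
    [0, 0, 0, 0, 0, 0, 0, 0, 0, 0, 0, 0, 0, 0, 0, 0],
    [0, 0],
    [0, 0, 0, 0, 0],
    [0, 0, 0],
    [0, 0, 0, 0, 0, 0, 0, 0, 0, 0],
    [0, 0, 0, 0, 0, 0, 0, 0, 0, 0, 0, 0, 0, 0],
    [0],
    [0, 0, 0, 0, 0, 0, 0, 0, 0, 0, 0, 0],
    [0, 0, 0, 0, 0, 0, 0, 0, 0, 0, 0, 0, 0],
    [0, 0, 0, 0, 0, 0, 0, 0, 0],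
    [0, 0, 0, 0, 0, 0, 0, 0, 0, 0, 0, 0, 0, 0, 0],
    [0, 0, 0, 0, 0, 0, 0, 0, 0, 0, 0],
    [0, 0, 0, 0],
    [0, 0, 0, 0, 0, 0],
    [0, 0, 0, 0, 0, 0, 0],
    [0, 0, 0, 0, 0, 0, 0, 0]])]

end Cfsg.Agent.Spor.Cos.Fi23Mult
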