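import Cfsg.Agent.Lib.Grp.SchurM.TailTable

/-! Data of a Sylow 5-subgroup of a group on 31671 points. -/

set_option autoImplicit false
set_option maxRecDepth 100000
set_option maxHeartbeats 8000000

open Cfsg.Agent.Grp.SchurM.Tails

namespace Cfsg.Agent.Spor.Cos.Fi23Mult

/-- Presentation. -/
def pc5 : PC where
  p := 5
  n := 2
  rhs := [[],
    [0, 1],
    []]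
  defs := []

/-- Words of the generators. -/
def ews5 : List (List ℕ) :=
  [[7, 4, 3, 0, 8, 9, 1, 2, 3, 8, 4, 5, 3, 4, 2, 3, 8, 9, 8, 4, 5, 3, 4, 1, 2, 3, 8, 0, 1, 2, 3, 4, 5, 6, 7, 8, 4, 5, 3, 4, 2, 3, 8, 9, 6, 5, 2, 3, 4, 1, 2, 3, 8, 0, 1, 2, 3, 4, 5, 6, 9, 8, 2, 3, 4, 1, 2, 3, 8, 9, 5, 4, 1, 2, 3, 8, 0, 1, 2, 3, 4, 5, 4, 2, 3, 8, 9, 3, 4, 0, 1, 2, 3, 8, 1, 2, 3, 4, 1, 2, 3, 1, 2, 1],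
    [2, 8, 6, 5, 2, 4, 3, 7, 6, 0, 8, 2, 3, 4, 1, 2, 3, 8, 9, 5, 4, 3, 8, 5, 6, 4, 5, 2, 3, 4, 1, 2, 3, 8, 9, 8, 5, 2, 3, 4, 1, 2, 3, 8, 0, 1, 2, 3, 4, 5, 6, 7, 5, 4, 3, 8, 9, 4, 2, 3, 8, 0, 1, 2, 3, 4, 5, 6, 8, 3, 4, 1, 2, 3, 8, 9, 5, 2, 3, 4, 1, 2, 3, 8, 0, 1, 2, 3, 4, 5, 9, 3, 8, 2, 3, 4, 3, 1]]

/-- Words of the conjugating elements. -/
def gws5 : List (List ℕ) :=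
  [[7, 6, 5, 3, 4, 2, 3, 8, 9, 8, 6, 4, 5, 3, 4, 1, 2, 3, 8, 0, 1, 2, 3, 4, 5, 6, 7, 4, 1, 2, 3, 8, 9, 5, 6, 4, 5, 3, 4, 2, 3, 8, 0, 1, 2, 3, 4, 5, 6, 5, 4, 0, 1, 2, 3, 8, 9, 8, 5, 3, 4, 2, 3, 8, 0, 1, 2, 3, 4, 5, 8, 3, 4, 2, 3, 8, 9, 1, 2, 3, 4, 0, 1, 2, 3, 8, 4, 1, 2, 3, 2, 1, 0],
    [1, 4, 0, 2, 1, 3, 8, 6, 4, 5, 3, 4, 2, 3, 8, 9, 8, 5, 2, 3, 4, 1, 2, 3, 8, 0, 1, 2, 3, 4, 5, 6, 7, 4, 1, 2, 3, 8, 5, 6, 4, 5, 2, 3, 4, 1, 2, 3, 8, 9, 4, 5, 3, 4, 1, 2, 3, 8, 0, 1, 2, 3, 4, 5, 6, 9, 8, 3, 4, 2, 3, 8, 9, 8, 3, 4, 1, 2, 3, 8, 0, 1, 2, 3, 4, 5, 4, 3, 8, 9, 8, 3, 4, 2, 3, 8, 2, 3, 0, 1, 2, 0, 1],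
    [5, 2, 6, 3, 7, 8, 9, 4, 2, 3, 8, 5, 6, 4, 5, 3, 4, 1, 2, 3, 8, 9, 6, 5, 4, 1, 2, 3, 8, 0, 1, 2, 3, 4, 5, 6, 7, 4, 3, 8, 9, 8, 6, 4, 5, 3, 4, 2, 3, 8, 1, 2, 3, 4, 5, 6, 8, 9, 0, 1, 2, 3, 8, 4, 5, 3, 4, 2, 3, 8, 9, 5, 4, 1, 2, 3, 8, 0, 1, 2, 3, 4, 5, 8, 9, 3, 4, 2, 3, 8, 3, 4, 0, 1, 2, 3, 2, 1, 0]]

/-- Conjugation data. -/
def conj5 : List Conj :=
  [(0, [0], [1]),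
    (1, [0, 1, 1], [1]),
    (1, [1], [0]),
    (2, [0], [0, 0])]

/-- Equations. -/
def eqs5 : List Eqn :=
  [.fus [0] [0, 0, 0, 0, 0] [],
    .fus [1, 2] [0, 1] [1, 0],
    .fus [3] [0, 0, 0, 0, 0] []]

/-- Combinations. -/
def combo5 : List (List ℕ) :=
  [[2, 2, 2, 2],
    [1, 1],
    [0, 0, 0, 0, 2, 2, 2, 2]]

/-- Base points. -/
def basePts5 : List ℕ := [0, 1, 2, 3, 4, 5, 6, 8, 9]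

/-- The certificate. -/
def tab5 : TableCert := ⟨pc5, ews5, gws5, conj5, ⟨eqs5, 3, combo5⟩, []⟩

/-- Transversals along the base. -/
def lev5 : List (ℕ × List (List ℕ)) :=
  [(1323, [[],
    [0, 1],
    [1],
    [0],
    [0, 0]]),
    (0, [[],
    [0, 0, 1],
    [0, 1, 1, 1],
    [0, 0, 0, 1, 1, 1, 1],
    [0, 0, 0, 0, 1, 1]])]

end Cfsg.Agent.Spor.Cos.Fi23Mult
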