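import Cfsg.Agent.Lib.Spor.Cos.Fi23Mult.Tail2
import Cfsg.Agent.Lib.Spor.Cos.Fi23Mult.Tail3
import Cfsg.Agent.Lib.Spor.Cos.Fi23Mult.Tail5
import Cfsg.Agent.Lib.Spor.Cos.Fi23Mult.Tail7
import Cfsg.Agent.Lib.Spor.Cos.Fi23Mult.Tail11
import Cfsg.Agent.Lib.Spor.Cos.Fi23Mult.Tail13
import Cfsg.Agent.Lib.Spor.Cos.Fi23Mult.Tail17
import Cfsg.Agent.Lib.Spor.Cos.Fi23Mult.Tail23

/-! The multiplier of Fi₂₃ is trivial. -/

set_option autoImplicit false
set_option maxRecDepth 100000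

open Cfsg Cfsg.Agent.Grp.SchurM.Tails

namespace Cfsg.Agent.Spor.Cos.Fi23Mult

theorem multiplier : Cfsg.HasCyclicSchurMultiplier Cfsg.Spor.Fi23 1 := by
  have := Fi23.finite
  refine multiplier_trivial fun p hp hd => ?_
  rw [Fi23.card_eq, show 4089470473293004800 = 2 ^ 18 * 3 ^ 13 * 5 ^ 2 * 7 * 11 * 13 * 17 * 23 by norm_num] at hd
  have key : ∀ r : ℕ, r.Prime → p ∣ r → p = r := fun r hr h => (Nat.prime_dvd_prime_iff_eq hp hr).1 h
  simp only [hp.dvd_mul] at hd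
  rcases hd with ((((((h2 | h3) | h5) | h7) | h11) | h13) | h17) | h23
  · obtain rfl := key 2 Nat.prime_two (hp.dvd_of_dvd_pow h2); exact sylow2
  · obtain rfl := key 3 Nat.prime_three (hp.dvd_of_dvd_pow h3); exact sylow3
  · obtain rfl := key 5 (by norm_num) (hp.dvd_of_dvd_pow h5); exact sylow5
  · obtain rfl := key 7 (by norm_num) h7; exact sylow7
  · obtain rfl := key 11 (by norm_num) h11; exact sylow11
  · obtain rfl := key 13 (by norm_num) h13; exact sylow13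
  · obtain rfl := key 17 (by norm_num) h17; exact sylow17
  · obtain rfl := key 23 (by norm_num) h23; exact sylow23

end Cfsg.Agent.Spor.Cos.Fi23Mult
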